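import Mathlib
import Groth.Prelude.Def_Coh

/-!
A derivation of the base extends to an etale scheme and acts on the cohomology of the structure
sheaf.
-/

set_option autoImplicit false
set_option backward.isDefEq.respectTransparency false
set_option backward.isDefEq.respectTransparency.types false
set_option linter.style.haveILetI false

universe u

open CategoryTheory AlgebraicGeometry Opposite TopologicalSpace

namespace Groth.Agent.DerCohom

section Alg

variable {A B B' : Type u} [CommRing A] [CommRing B] [CommRing B']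

theorem exists_derivation (φ : A →+* B) (hφ : φ.Etale) (θ : Derivation ℤ A A) :
    ∃ D : B →+ B, (∀ x y, D (x * y) = x * D y + y * D x) ∧ ∀ a, D (φ a) = φ (θ a) := by
  algebraize [φ]
  let χ : A →+* TrivSqZeroExt B B :=
    { toFun := fun a => TrivSqZeroExt.inl (φ a) + TrivSqZeroExt.inr (φ (θ a))
      map_one' := by simp
      map_zero' := by simp
      map_add' := fun a b => TrivSqZeroExt.ext (by simp) (by simp)
      map_mul' := fun a b => TrivSqZeroExt.ext (by simp) (by
        simp [Derivation.leibniz, smul_eq_mul]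
        ring) }
  letI : Algebra A (TrivSqZeroExt B B) := χ.toAlgebra
  let pr : TrivSqZeroExt B B →ₐ[A] B :=
    { (TrivSqZeroExt.fstHom B B B).toRingHom with
      commutes' := fun a => by
        show (TrivSqZeroExt.inl (φ a) + TrivSqZeroExt.inr (φ (θ a)) : TrivSqZeroExt B B).fst = φ a
        simp }
  have hsurj : Function.Surjective pr := fun b => ⟨TrivSqZeroExt.inl b, rfl⟩
  have hnil : IsNilpotent (RingHom.ker pr) := by
    refine ⟨2, le_bot_iff.1 ((pow_two (RingHom.ker pr)).le.trans (Ideal.mul_le.2 ?_))⟩
    intro x hx y hy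
    rw [Ideal.mem_bot]
    have hx' : x.fst = 0 := hx
    have hy' : y.fst = 0 := hy
    refine TrivSqZeroExt.ext ?_ ?_
    · simp [hx', hy']
    · simp [hx', hy']
  let g := Algebra.FormallySmooth.liftOfSurjective (AlgHom.id A B) pr hsurj hnil
  have hg : ∀ b, (g b).fst = b := fun b =>
    Algebra.FormallySmooth.liftOfSurjective_apply (AlgHom.id A B) pr hsurj hnil b
  refine ⟨{ toFun := fun b => (g b).snd, map_zero' := by simp, map_add' := fun x y => by simp },
    fun x y => ?_, fun a => ?_⟩
  · show (g (x * y)).snd = x * (g y).snd + y * (g x).snd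
    rw [map_mul, TrivSqZeroExt.snd_mul, hg, hg]
    simp [mul_comm]
  · show (g (algebraMap A B a)).snd = φ (θ a)
    rw [g.commutes]
    show (TrivSqZeroExt.inl (φ a) + TrivSqZeroExt.inr (φ (θ a)) : TrivSqZeroExt B B).snd = _
    simp

theorem comm_of_unramified (φ : A →+* B) (hφ : φ.FormallyUnramified) (r : B →+* B') (D : B →+ B)
    (D' : B' →+ B') (hD : ∀ x y, D (x * y) = x * D y + y * D x)
    (hD' : ∀ x y, D' (x * y) = x * D' y + y * D' x) (h : ∀ a, r (D (φ a)) = D' (r (φ a))) (b : B) :
    r (D b) = D' (r b) := by
  algebraize [φ, r, r.comp φ]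
  let δ : Derivation A B B' :=
    { toFun := fun b => r (D b) - D' (r b)
      map_add' := fun x y => by simp only [map_add]; ring
      map_smul' := fun a x => by
        show r (D (φ a * x)) - D' (r (φ a * x)) = r (φ a) * (r (D x) - D' (r x))
        rw [hD, map_add, map_mul r, map_mul r, map_mul r, hD', h]
        ring
      map_one_eq_zero' := by
        show r (D 1) - D' (r 1) = 0
        rw [← map_one φ, h, sub_self]
      leibniz' := fun x y => by
        show r (D (x * y)) - D' (r (x * y)) =
          r x * (r (D y) - D' (r y)) + r y * (r (D x) - D' (r x))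
        rw [hD, map_add, map_mul r, map_mul r, map_mul r, hD']
        ring }
  have : δ b = 0 := by
    rw [← Derivation.liftKaehlerDifferential_comp_D δ b,
      Subsingleton.elim (KaehlerDifferential.D A B b) 0, map_zero]
  exact sub_eq_zero.1 this

end Alg

variable {A : Type u} [CommRing A] {V : Scheme.{u}} (f : V ⟶ Spec (CommRingCat.of A)) [Etale f]

/-- The structure map at an open. -/
noncomputable def str (U : V.Opens) : A →+* Γ(V, U) :=
  (Coh.resTop V (op U)).comp (Coh.toGlobal f)

theorem str_res {U U' : V.Opens} (i : op U ⟶ op U') (a : A) :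
    (V.presheaf.map i).hom (str f U a) = str f U' a :=
  Coh.resTop_comp (op U) (op U') i _

theorem etale_str (U : V.affineOpens) : (str f U.1).Etale := by
  have h := f.etale_appLE (isAffineOpen_top _) U.2 (le_top : U.1 ≤ f ⁻¹ᵁ ⊤)
  have h2 := RingHom.Etale.respectsIso.2 _ (Scheme.ΓSpecIso (CommRingCat.of A)).symm.commRingCatIsoToRingEquiv h
  exact h2

theorem exists_endo (θ : Derivation ℤ A A) :
    ∃ D : Coh.toAb (Coh.structureModule V) ⟶ Coh.toAb (Coh.structureModule V),
      ∀ a : A, Coh.smulAb (Coh.structureModule V) (Coh.toGlobal f a) ≫ D =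
        Coh.smulAb (Coh.structureModule V) (Coh.toGlobal f (θ a)) +
          D ≫ Coh.smulAb (Coh.structureModule V) (Coh.toGlobal f a) := by
  choose D hD hDa using fun U : V.affineOpens => exists_derivation (str f U.1) (etale_str f U) θ
  let F := Coh.toAb (Coh.structureModule V)
  let B : V.affineOpens → Opens V := fun U => U.1
  have hB : Opens.IsBasis (Set.range B) := by
    have : Set.range B = V.affineOpens := Subtype.range_coe
    rw [this]; exact V.isBasis_affineOpens
  let α : (inducedFunctor B).op ⋙ F.obj ⟶ (inducedFunctor B).op ⋙ F.obj :=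
    { app := fun U => AddCommGrpCat.ofHom (D U.unop)
      naturality := fun U U' i => by
        ext x
        refine (comm_of_unramified (str f U.unop.1) (etale_str f U.unop).formallyUnramified
          (V.presheaf.map ((inducedFunctor B).op.map i)).hom (D U.unop) (D U'.unop) (hD _) (hD _)
          (fun a => ?_) x).symm
        erw [hDa, str_res f ((inducedFunctor B).op.map i) (θ a), str_res f ((inducedFunctor B).op.map i) a]
        exact (hDa U'.unop a).symm }
  let E : F ⟶ F := ⟨TopCat.Sheaf.restrictHomEquivHom F.obj F hB α⟩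
  refine ⟨E, fun a => ?_⟩
  refine Sheaf.hom_ext (TopCat.Sheaf.hom_ext F.obj F hB fun U => ?_)
  have he : E.hom.app (op (B U)) = AddCommGrpCat.ofHom (D U) :=
    TopCat.Sheaf.extend_hom_app F.obj F hB α U
  ext x
  show E.hom.app (op (B U)) ((Coh.smulAb (Coh.structureModule V) (Coh.toGlobal f a)).hom.app (op (B U)) x) =
    (Coh.smulAb (Coh.structureModule V) (Coh.toGlobal f (θ a))).hom.app (op (B U)) x +
      (Coh.smulAb (Coh.structureModule V) (Coh.toGlobal f a)).hom.app (op (B U)) (E.hom.app (op (B U)) x)
  rw [he]
  have key : ∀ y : Γ(V, U.1),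
      D U (str f U.1 a * y) = str f U.1 (θ a) * y + str f U.1 a * D U y := fun y => by
    rw [hD, hDa]; ring
  exact key x

theorem main (θ : Derivation ℤ A A) (i : ℕ) [V.Over (Spec (CommRingCat.of A))]
    [Etale (V ↘ Spec (CommRingCat.of A))] :
    ∃ D : Coh.HH V (Coh.structureModule V) i →+ Coh.HH V (Coh.structureModule V) i,
      ∀ (a : A) (ξ : Coh.HH V (Coh.structureModule V) i), D (a • ξ) = θ a • ξ + a • D ξ := by
  obtain ⟨E, hE⟩ := exists_endo (V ↘ Spec (CommRingCat.of A)) θ
  refine ⟨Sheaf.H.map E i, fun a ξ => ?_⟩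
  have h := congrArg (fun g => Sheaf.H.map g i ξ) (hE a)
  simp only [Sheaf.H.map_comp_apply, Sheaf.H.map_add_apply] at h
  exact h

end Groth.Agent.DerCohom
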